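import Mathlib
import Groth.Agent.H30.K0Bridge

/-!
# `ℕ`-indexed coproducts in an abelian category: shift, sums of short exact sequences
-/

set_option autoImplicit false
set_option linter.style.haveILetI false
universe v u
open CategoryTheory Limits

namespace Groth.Agent.H30.Swindle

variable {A : Type u} [Category.{v} A] [Abelian A] [HasColimitsOfShape (Discrete ℕ) A]

/-- a coproduct of zero objects is zero -/
lemma isZero_sigma (X : ℕ → A) (h : ∀ k, IsZero (X k)) : IsZero (∐ X) := by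
  rw [IsZero.iff_id_eq_zero]
  exact Sigma.hom_ext _ _ (fun k => (h k).eq_of_src _ _)

/-- the components of the shift map -/
noncomputable def shiftHomComp (X : ℕ → A) :
    ∀ k, X k ⟶ X 0 ⊞ ∐ fun k => X (k + 1)
  | 0 => biprod.inl
  | k + 1 => Sigma.ι (fun k => X (k + 1)) k ≫ biprod.inr

/-- `∐_k X_k ≅ X_0 ⊞ ∐_k X_{k+1}` -/
noncomputable def shiftIso (X : ℕ → A) : (∐ X) ≅ X 0 ⊞ ∐ fun k => X (k + 1) where
  hom := Sigma.desc (shiftHomComp X)
  inv := biprod.desc (Sigma.ι X 0) (Sigma.desc fun k => Sigma.ι X (k + 1))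
  hom_inv_id := by
    refine Sigma.hom_ext _ _ (fun k => ?_)
    cases k with
    | zero => simp [shiftHomComp]
    | succ k => simp [shiftHomComp]
  inv_hom_id := by
    refine biprod.hom_ext' _ _ ?_ ?_
    · simp [shiftHomComp]
    · refine Sigma.hom_ext _ _ (fun k => ?_)
      simp [shiftHomComp]

section SumSES

variable (hmono : ∀ {X Y : ℕ → A} (f : ∀ k, X k ⟶ Y k), (∀ k, Mono (f k)) → Mono (Limits.Sigma.map f))

include hmono in
/-- a coproduct of short exact sequences is short exact (given that coproducts of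
monomorphisms are monomorphisms) -/
lemma shortExact_sigma {X₁ X₂ X₃ : ℕ → A} (f : ∀ k, X₁ k ⟶ X₂ k) (g : ∀ k, X₂ k ⟶ X₃ k)
    (w : ∀ k, f k ≫ g k = 0) (hS : ∀ k, (ShortComplex.mk (f k) (g k) (w k)).ShortExact) :
    (ShortComplex.mk (Limits.Sigma.map f) (Limits.Sigma.map g)
      (by
        refine Sigma.hom_ext _ _ (fun k => ?_)
        rw [Sigma.ι_map_assoc, Sigma.ι_map, reassoc_of% (w k), zero_comp,
          comp_zero])).ShortExact := by
  haveI : ∀ k, Mono (f k) := fun k => (hS k).mono_f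
  haveI : ∀ k, Epi (g k) := fun k => (hS k).epi_g
  haveI : Mono (Limits.Sigma.map f) := hmono f inferInstance
  haveI : Epi (Limits.Sigma.map g) := by
    refine ⟨fun {Z} a b hab => Sigma.hom_ext _ _ (fun k => ?_)⟩
    have h1 : Sigma.ι X₂ k ≫ Limits.Sigma.map g ≫ a = Sigma.ι X₂ k ≫ Limits.Sigma.map g ≫ b := by rw [hab]
    rw [Sigma.ι_map_assoc, Sigma.ι_map_assoc] at h1
    exact (cancel_epi (g k)).1 h1
  refine ShortComplex.ShortExact.mk' ?_ inferInstance inferInstance
  refine ShortComplex.exact_of_g_is_cokernel _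
    (CokernelCofork.IsColimit.ofπ' _ _ (fun {W} k hk => ?_))
  have hk' : ∀ n, f n ≫ Sigma.ι X₂ n ≫ k = 0 := by
    intro n
    have h1 : Sigma.ι X₁ n ≫ Limits.Sigma.map f ≫ k = 0 := by
      have hk0 : Limits.Sigma.map f ≫ k = 0 := hk
      rw [hk0, comp_zero]
    rwa [Sigma.ι_map_assoc] at h1
  refine ⟨Sigma.desc (fun n => (hS n).exact.desc (Sigma.ι X₂ n ≫ k) (hk' n)), ?_⟩
  refine Sigma.hom_ext _ _ (fun n => ?_)
  change Sigma.ι X₂ n ≫ Limits.Sigma.map g ≫ _ = _
  rw [Sigma.ι_map_assoc, Sigma.ι_desc]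
  exact (hS n).exact.g_desc _ _

open KZero Groth.Agent.H30.K0Bridge in
include hmono in
/-- the class of a coproduct of short exact sequences -/
lemma clSub_sigma_ses (P : ObjectProperty A) {X₁ X₂ X₃ : ℕ → A} (f : ∀ k, X₁ k ⟶ X₂ k)
    (g : ∀ k, X₂ k ⟶ X₃ k) (w : ∀ k, f k ≫ g k = 0)
    (hS : ∀ k, (ShortComplex.mk (f k) (g k) (w k)).ShortExact)
    (h₁ : P (∐ X₁)) (h₂ : P (∐ X₂)) (h₃ : P (∐ X₃)) :
    clSub P (∐ X₂) = clSub P (∐ X₁) + clSub P (∐ X₃) :=
  clSub_shortExact P _ (shortExact_sigma hmono f g w hS) h₁ h₂ h₃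

end SumSES

section Classes

open KZero Groth.Agent.H30.K0Bridge

variable (P : ObjectProperty A) [P.IsClosedUnderIsomorphisms] [P.ContainsZero]

/-- the class of a coproduct splits off the zeroth term -/
lemma clSub_sigma_shift (X : ℕ → A) (h0 : P (X 0)) (h : P (∐ X))
    (h' : P (∐ fun k => X (k + 1))) :
    clSub P (∐ X) = clSub P (X 0) + clSub P (∐ fun k => X (k + 1)) := by
  have hb : P (X 0 ⊞ ∐ fun k => X (k + 1)) := P.prop_of_iso (shiftIso X) h
  rw [clSub_iso P (shiftIso X) h]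
  exact clSub_shortExact P _
    (ShortComplex.Splitting.ofHasBinaryBiproduct (X 0) (∐ fun k => X (k + 1))).shortExact h0 hb h'

/-- termwise isomorphic families have the same class -/
lemma clSub_sigma_iso {X Y : ℕ → A} (e : ∀ k, X k ≅ Y k) (h : P (∐ X)) :
    clSub P (∐ X) = clSub P (∐ Y) :=
  clSub_iso P (Sigma.mapIso e) h

end Classes

end Groth.Agent.H30.Swindle
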