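import Mathlib
import Groth.Agent.H30.NilDev.Psi
import Groth.Agent.H30.Swindle.SigmaNat

/-!
# Locally nilpotent dévissage via an Eilenberg swindle, part 1: the radical functor and
the refined key lemma
-/

set_option autoImplicit false
set_option linter.style.haveILetI false
universe v u
open CategoryTheory Limits KZero ZeroObject

namespace Groth.Agent.H30.Swindle

open Groth.Agent.H30.K0Bridge Groth.Agent.H30.NilDev

variable {A : Type u} [Category.{v} A] [Abelian A] (T : A ⥤ A) (η : 𝟭 A ⟶ T)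

/-- the radical as a functor -/
noncomputable def rF : A ⥤ A where
  obj M := r T η M
  map f := rmap T η f
  map_id M := by
    rw [← cancel_mono (rι T η M), rmap_ι, Category.comp_id, Category.id_comp]
  map_comp f g := by
    rw [← cancel_mono (rι T η _), rmap_ι, Category.assoc, rmap_ι, rmap_ι_assoc]

instance rF_additive : (rF T η).Additive where
  map_add {M N f g} := by
    change rmap T η (f + g) = rmap T η f + rmap T η g
    rw [← cancel_mono (rι T η N), rmap_ι, Preadditive.add_comp, rmap_ι, rmap_ι,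
      Preadditive.comp_add]

/-- the iterated radical functor -/
noncomputable def rpowF : ℕ → (A ⥤ A)
  | 0 => 𝟭 A
  | k + 1 => rpowF k ⋙ rF T η

instance rpowF_additive : ∀ k, (rpowF T η k).Additive
  | 0 => by unfold rpowF; infer_instance
  | k + 1 => by
    haveI := rpowF_additive k
    unfold rpowF
    infer_instance

instance rpowF_map_mono {N M : A} (f : N ⟶ M) [Mono f] : ∀ k, Mono ((rpowF T η k).map f)
  | 0 => by
    change Mono f
    infer_instance
  | k + 1 => by
    haveI := rpowF_map_mono f k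
    change Mono (rmap T η ((rpowF T η k).map f))
    infer_instance

lemma isZero_rpowF_obj {M : A} (hM : IsZero M) (k : ℕ) : IsZero ((rpowF T η k).obj M) :=
  (rpowF T η k).map_isZero hM

lemma isZero_rpowF_succ_of_isIso {M : A} [IsIso (ηa T η M)] :
    ∀ k, IsZero ((rpowF T η (k + 1)).obj M)
  | 0 => by
    change IsZero (r T η M)
    exact isZero_r_of_isIso T η
  | k + 1 => isZero_r_of_isZero T η (isZero_rpowF_succ_of_isIso k)

variable {T η} {Q : ObjectProperty A}

lemma Q_rpow (h : Hyp T η Q) {M : A} (hM : Q M) : ∀ k, Q ((rpowF T η k).obj M)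
  | 0 => hM
  | k + 1 => h.Qr (Q_rpow h hM k)

lemma Q_iso (h : Hyp T η Q) : Q.IsClosedUnderIsomorphisms where
  of_iso e hM := h.iso e hM

lemma Q_zero (h : Hyp T η Q) : Q.ContainsZero where
  exists_zero := ⟨(0 : A), isZero_zero _, h.zero _ (isZero_zero _)⟩

variable [T.PreservesZeroMorphisms] [PreservesFiniteColimits T]

lemma rpowF_map_epi (h : Hyp T η Q) {M M'' : A} (g : M ⟶ M'') [Epi g] (hM : Q M) (hM'' : Q M'') :
    ∀ k, Epi ((rpowF T η k).map g)
  | 0 => by
    change Epi g
    infer_instance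
  | k + 1 => by
    haveI := rpowF_map_epi h g hM hM'' k
    exact rmap_epi h ((rpowF T η k).map g) (Q_rpow h hM k) (Q_rpow h hM'' k)

/-- the key diagram lemma, with the compatibilities -/
theorem keyC (h : Hyp T η Q) (S : ShortComplex A) (hS : S.ShortExact)
    (h₁ : Q S.X₁) (h₂ : Q S.X₂) (h₃ : Q S.X₃) :
    ∃ (D E : A) (_ : Q D) (_ : Q E) (_ : IsIso (ηa T η E))
      (a : D ⟶ r T η S.X₂) (b : D ⟶ S.X₁) (c : S.X₁ ⟶ E)
      (d : E ⟶ T.obj S.X₂) (w1 : a ≫ rmap T η S.g = 0) (w2 : b ≫ c = 0)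
      (w3 : d ≫ T.map S.g = 0),
      a ≫ rι T η S.X₂ = b ≫ S.f ∧ c ≫ d = S.f ≫ ηa T η S.X₂ ∧
      (ShortComplex.mk a (rmap T η S.g) w1).ShortExact ∧
      (ShortComplex.mk b c w2).ShortExact ∧
      (ShortComplex.mk d (T.map S.g) w3).ShortExact := by
  haveI := hS.mono_f
  haveI := hS.epi_g
  haveI : Epi (T.map S.g) := inferInstance
  let E : A := kernel (T.map S.g)
  let d : E ⟶ T.obj S.X₂ := kernel.ι (T.map S.g)
  have hc0 : (S.f ≫ ηa T η S.X₂) ≫ T.map S.g = 0 := by
    rw [Category.assoc, ← ηa_naturality T η S.g, S.zero_assoc, zero_comp]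
  let c : S.X₁ ⟶ E := kernel.lift (T.map S.g) (S.f ≫ ηa T η S.X₂) hc0
  have hcd : c ≫ d = S.f ≫ ηa T η S.X₂ := kernel.lift_ι _ _ _
  have hTex : (S.map T).Exact :=
    hS.exact.map_of_epi_of_preservesCokernel T hS.epi_g inferInstance
  have hc' : Epi (kernel.lift (T.map S.g) (T.map S.f) (S.map T).zero) :=
    hTex.epi_kernelLift
  have hfac : c = ηa T η S.X₁ ≫ kernel.lift (T.map S.g) (T.map S.f) (S.map T).zero := by
    have hl : kernel.lift (T.map S.g) (T.map S.f) (S.map T).zero ≫ d = T.map S.f :=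
      kernel.lift_ι _ _ _
    rw [← cancel_mono d, hcd, Category.assoc, hl]
    exact ηa_naturality T η S.f
  haveI hη₁ : Epi (ηa T η S.X₁) := h.epi _ h₁
  haveI hcepi : Epi c := by
    rw [hfac]
    exact epi_comp _ _
  let D : A := kernel c
  let b : D ⟶ S.X₁ := kernel.ι c
  have w2 : b ≫ c = 0 := kernel.condition c
  have ha0 : (b ≫ S.f) ≫ ηa T η S.X₂ = 0 := by
    rw [Category.assoc, ← hcd, ← Category.assoc, w2, zero_comp]
  let a : D ⟶ r T η S.X₂ := rlift T η (b ≫ S.f) ha0
  have haι : a ≫ rι T η S.X₂ = b ≫ S.f := rlift_ι T η _ _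
  have w1 : a ≫ rmap T η S.g = 0 := by
    rw [← cancel_mono (rι T η S.X₃), Category.assoc, rmap_ι, ← Category.assoc, haι,
      Category.assoc, S.zero, comp_zero, zero_comp]
  have w3 : d ≫ T.map S.g = 0 := kernel.condition _
  have hQE : Q E := h.ker _ (h.QT _ h₂) (h.QT _ h₃)
  have hQD : Q D := h.ker _ h₁ hQE
  haveI : IsIso (ηa T η (T.obj S.X₂)) := h.isoT _ h₂
  have hEiso : IsIso (ηa T η E) := h.isoSub d hQE (h.QT _ h₂) inferInstance
  refine ⟨D, E, hQD, hQE, hEiso, a, b, c, d, w1, w2, w3, haι, hcd, ?_, ?_, ?_⟩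
  · haveI : Mono a := by
      haveI : Mono (a ≫ rι T η S.X₂) := by
        rw [haι]
        infer_instance
      exact mono_of_mono a (rι T η S.X₂)
    refine ShortComplex.ShortExact.mk' ?_ inferInstance ?_
    · rw [ShortComplex.exact_iff_exact_up_to_refinements]
      intro W x hx
      have hx' : x ≫ rmap T η S.g = 0 := hx
      have h1 : (x ≫ rι T η S.X₂) ≫ S.g = 0 := by
        rw [Category.assoc, ← rmap_ι, ← Category.assoc, hx', zero_comp]
      let m' : W ⟶ S.X₁ := hS.exact.lift (x ≫ rι T η S.X₂) h1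
      have hm' : m' ≫ S.f = x ≫ rι T η S.X₂ := hS.exact.lift_f _ _
      have hm'c : m' ≫ c = 0 := by
        rw [← cancel_mono d, Category.assoc, hcd, ← Category.assoc, hm', Category.assoc,
          rι_η, comp_zero, zero_comp]
      refine ⟨W, 𝟙 W, inferInstance, kernel.lift c m' hm'c, ?_⟩
      change 𝟙 W ≫ x = kernel.lift c m' hm'c ≫ a
      rw [Category.id_comp, ← cancel_mono (rι T η S.X₂), Category.assoc, haι, ← Category.assoc,
        kernel.lift_ι, hm']
    · change Epi (rmap T η S.g)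
      rw [epi_iff_surjective_up_to_refinements]
      intro W x''
      obtain ⟨W₁, π₁, hπ₁, m, hm⟩ :=
        (epi_iff_surjective_up_to_refinements S.g).1 inferInstance (x'' ≫ rι T η S.X₃)
      have hmη : (m ≫ ηa T η S.X₂) ≫ T.map S.g = 0 := by
        rw [Category.assoc, ← ηa_naturality T η S.g, ← Category.assoc, ← hm, Category.assoc,
          Category.assoc, rι_η, comp_zero, comp_zero]
      let e : W₁ ⟶ E := kernel.lift (T.map S.g) (m ≫ ηa T η S.X₂) hmη
      have he : e ≫ d = m ≫ ηa T η S.X₂ := kernel.lift_ι _ _ _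
      obtain ⟨W₂, π₂, hπ₂, m', hm'⟩ :=
        (epi_iff_surjective_up_to_refinements c).1 hcepi e
      have hz : (π₂ ≫ m - m' ≫ S.f) ≫ ηa T η S.X₂ = 0 := by
        rw [Preadditive.sub_comp, Category.assoc, Category.assoc, ← he, ← hcd,
          ← Category.assoc, ← Category.assoc, hm', sub_self]
      haveI : Epi (π₂ ≫ π₁) := epi_comp _ _
      refine ⟨W₂, π₂ ≫ π₁, inferInstance, rlift T η _ hz, ?_⟩
      rw [← cancel_mono (rι T η S.X₃)]
      simp only [Category.assoc]
      rw [rmap_ι, rlift_ι_assoc, Preadditive.sub_comp, Category.assoc, Category.assoc, S.zero,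
        comp_zero, sub_zero, ← hm]
  · exact ShortComplex.ShortExact.mk' (ShortComplex.exact_kernel c) inferInstance hcepi
  · exact ShortComplex.ShortExact.mk' (ShortComplex.exact_kernel (T.map S.g)) inferInstance
      inferInstance

lemma shortExact_cokernel {N M : A} (f : N ⟶ M) [Mono f] :
    (ShortComplex.mk f (cokernel.π f) (cokernel.condition f)).ShortExact :=
  ShortComplex.ShortExact.mk' (ShortComplex.exact_cokernel f) inferInstance inferInstance

/-- the two-step key lemma for a subobject with quotient fixed by the unit -/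
theorem key4 (h : Hyp T η Q) {N M : A} (f : N ⟶ M) [Mono f] (hN : Q N) (hM : Q M)
    (hC : QB T η Q (cokernel f)) :
    QB T η Q (cokernel (rmap T η f)) ∧
    ∃ (E : A) (_ : QB T η Q E) (d : E ⟶ T.obj M) (c' : cokernel (rmap T η f) ⟶ T.obj N)
      (e : T.obj N ⟶ T.obj E) (w₁ : d ≫ T.map (cokernel.π f) = 0) (w₂ : c' ≫ e = 0),
      (ShortComplex.mk d (T.map (cokernel.π f)) w₁).ShortExact ∧
      (ShortComplex.mk c' e w₂).ShortExact := by
  haveI := QB_iso h
  obtain ⟨D, E, hQD, hQE, hEiso, a, b, c, d, w1, w2, w3, haι, hcd, s1, s2, s3⟩ :=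
    keyC h _ (shortExact_cokernel f) hN hM hC.1
  have hz : IsZero (r T η (cokernel f)) := by
    haveI := hC.2
    exact isZero_r_of_isIso T η
  haveI : Mono a := s1.mono_f
  haveI : Epi a := s1.exact.epi_f (hz.eq_of_tgt _ _)
  haveI : IsIso a := isIso_of_mono_of_epi a
  obtain ⟨D', E', hQD', hQE', hE'iso, a', b', c', d', w1', w2', w3', haι', hcd', s1', s2', s3'⟩ :=
    keyC h _ s2 hQD hN hQE
  have hz' : IsZero (r T η E) := by
    haveI := hEiso
    exact isZero_r_of_isIso T η
  haveI : Mono a' := s1'.mono_f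
  haveI : Epi a' := s1'.exact.epi_f (hz'.eq_of_tgt _ _)
  haveI : IsIso a' := isIso_of_mono_of_epi a'
  have hsq : b' ≫ a = a' ≫ rmap T η f := by
    rw [← cancel_mono (rι T η M), Category.assoc, Category.assoc, rmap_ι, haι,
      ← Category.assoc, ← Category.assoc, haι']
  let e1 : cokernel b' ≅ cokernel (rmap T η f) :=
    cokernel.mapIso b' (rmap T η f) (asIso a') (asIso a) hsq
  haveI : Epi c' := s2'.epi_g
  let e2 : cokernel b' ≅ E' :=
    (cokernelIsCokernel b').coconePointUniqueUpToIso s2'.exact.gIsCokernel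
  let e3 : cokernel (rmap T η f) ≅ E' := e1.symm ≪≫ e2
  have hQBE' : QB T η Q E' := ⟨hQE', hE'iso⟩
  refine ⟨(QB T η Q).prop_of_iso e3.symm hQBE', E, ⟨hQE, hEiso⟩, d, e3.hom ≫ d', T.map c, w3,
    by rw [Category.assoc, w3', comp_zero], s3, ?_⟩
  have hS' : (ShortComplex.mk d' (T.map c) w3').ShortExact := s3'
  refine ShortComplex.shortExact_of_iso
    (ShortComplex.isoMk (S₁ := ShortComplex.mk d' (T.map c) w3') e3.symm (Iso.refl _) (Iso.refl _)
      ?_ ?_) hS'
  · change e3.inv ≫ e3.hom ≫ d' = d' ≫ 𝟙 _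
    rw [Category.comp_id, Iso.inv_hom_id_assoc]
  · change 𝟙 _ ≫ T.map c = T.map c ≫ 𝟙 _
    rw [Category.comp_id, Category.id_comp]

end Groth.Agent.H30.Swindle
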