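import Mathlib
import Groth.Agent.H30.Swindle.Core

/-!
# Locally nilpotent dévissage via an Eilenberg swindle, part 2: the associated graded and its
additivity
-/

set_option autoImplicit false
set_option linter.style.haveILetI false
set_option linter.unusedSectionVars false
universe v u
open CategoryTheory Limits KZero ZeroObject

namespace Groth.Agent.H30.Swindle

open Groth.Agent.H30.K0Bridge Groth.Agent.H30.NilDev

variable {A : Type u} [Category.{v} A] [Abelian A] [HasColimitsOfShape (Discrete ℕ) A]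
  (T : A ⥤ A) (η : 𝟭 A ⟶ T)

/-- admissible ("locally finite") `ℕ`-indexed families -/
structure LFHyp (Q : ObjectProperty A) where
  LF : (ℕ → A) → Prop
  q : ∀ {M : ℕ → A}, LF M → ∀ k, Q (M k)
  sigma : ∀ {M : ℕ → A}, LF M → Q (∐ M)
  of_mono : ∀ {M N : ℕ → A}, LF M → (∀ k, Q (N k)) → ∀ (f : ∀ k, N k ⟶ M k),
    (∀ k, Mono (f k)) → LF N
  of_epi : ∀ {M N : ℕ → A}, LF M → (∀ k, Q (N k)) → ∀ (f : ∀ k, M k ⟶ N k),
    (∀ k, Epi (f k)) → LF N
  shift : ∀ {M : ℕ → A}, LF M → LF (fun k => M (k + 1))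
  rpow : ∀ {M : A}, Q M → LF (fun k => (rpowF T η k).obj M)

/-- the associated graded object -/
noncomputable def gr (M : A) : A := ∐ fun k => T.obj ((rpowF T η k).obj M)

variable {T η} {Q : ObjectProperty A}

section

variable [T.Additive] [PreservesFiniteColimits T] [PreservesColimitsOfShape (Discrete ℕ) T]
  (h : Hyp T η Q) (L : LFHyp T η Q)

lemma isIso_ηa_sigma (M : ℕ → A) (hM : ∀ k, IsIso (ηa T η (M k))) : IsIso (ηa T η (∐ M)) := by
  have h1 : Limits.Sigma.map (fun k => ηa T η (M k)) ≫ sigmaComparison T M = ηa T η (∐ M) := by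
    refine Sigma.hom_ext _ _ (fun k => ?_)
    rw [Sigma.ι_map_assoc, ι_comp_sigmaComparison]
    exact (ηa_naturality T η (Sigma.ι M k)).symm
  rw [← h1]
  infer_instance

include h L

lemma QB_sigma {M : ℕ → A} (hM : L.LF M) (hi : ∀ k, IsIso (ηa T η (M k))) :
    QB T η Q (∐ M) :=
  ⟨L.sigma hM, isIso_ηa_sigma M hi⟩

lemma LF_T {M : ℕ → A} (hM : L.LF M) : L.LF (fun k => T.obj (M k)) :=
  L.of_epi hM (fun k => h.QT _ (L.q hM k)) (fun k => ηa T η (M k)) (fun k => h.epi _ (L.q hM k))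

lemma QB_sigma_T {M : ℕ → A} (hM : L.LF M) : QB T η Q (∐ fun k => T.obj (M k)) :=
  QB_sigma h L (LF_T h L hM) (fun k => h.isoT _ (L.q hM k))

lemma QB_gr {M : A} (hM : Q M) : QB T η Q (gr T η M) :=
  QB_sigma_T h L (L.rpow hM)

variable (hmono : ∀ {X Y : ℕ → A} (f : ∀ k, X k ⟶ Y k), (∀ k, Mono (f k)) →
  Mono (Limits.Sigma.map f))

include hmono

/-- the graded class of a subobject with quotient fixed by the unit -/
theorem gr_sub {N M : A} (f : N ⟶ M) [Mono f] (hN : Q N) (hM : Q M)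
    (hC : QB T η Q (cokernel f)) :
    clSub (QB T η Q) (gr T η M) =
      clSub (QB T η Q) (gr T η N) + clSub (QB T η Q) (cokernel f) := by
  haveI := QB_iso h
  haveI := QB_zero h
  let fk : ∀ k, (rpowF T η k).obj N ⟶ (rpowF T η k).obj M := fun k => (rpowF T η k).map f
  let Ak : ℕ → A := fun k => cokernel (fk k)
  have hA : ∀ k, QB T η Q (Ak k) := by
    intro k
    induction k with
    | zero => exact hC
    | succ k ih => exact (key4 h (fk k) (Q_rpow h hN k) (Q_rpow h hM k) ih).1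
  have hdata := fun k => (key4 h (fk k) (Q_rpow h hN k) (Q_rpow h hM k) (hA k)).2
  choose E hE d c' e w₁ w₂ s₁ s₂ using hdata
  have LM := L.rpow hM
  have LN := L.rpow hN
  have LE : L.LF E := L.of_mono (LF_T h L LM) (fun k => (hE k).1) d (fun k => (s₁ k).mono_f)
  have LA : L.LF Ak := L.of_epi LM (fun k => (hA k).1) (fun k => cokernel.π (fk k))
    (fun k => inferInstance)
  have LA' : L.LF (fun k => Ak (k + 1)) := L.shift LA
  have qE : QB T η Q (∐ E) := QB_sigma h L LE (fun k => (hE k).2)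
  have qA : QB T η Q (∐ Ak) := QB_sigma h L LA (fun k => (hA k).2)
  have qA' : QB T η Q (∐ fun k => Ak (k + 1)) := QB_sigma h L LA' (fun k => (hA (k + 1)).2)
  have qTA : QB T η Q (∐ fun k => T.obj (Ak k)) := QB_sigma_T h L LA
  have qTE : QB T η Q (∐ fun k => T.obj (E k)) := QB_sigma_T h L LE
  have e1 : clSub (QB T η Q) (gr T η M) =
      clSub (QB T η Q) (∐ E) + clSub (QB T η Q) (∐ fun k => T.obj (Ak k)) :=
    clSub_sigma_ses hmono (QB T η Q) d (fun k => T.map (cokernel.π (fk k))) w₁ s₁ qE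
      (QB_gr h L hM) qTA
  have e2 : clSub (QB T η Q) (gr T η N) =
      clSub (QB T η Q) (∐ fun k => Ak (k + 1)) + clSub (QB T η Q) (∐ fun k => T.obj (E k)) :=
    clSub_sigma_ses hmono (QB T η Q) c' e w₂ s₂ qA' (QB_gr h L hN) qTE
  have e3 : clSub (QB T η Q) (∐ Ak) = clSub (QB T η Q) (∐ fun k => T.obj (Ak k)) :=
    clSub_sigma_iso (QB T η Q)
      (fun k => @asIso _ _ _ _ (ηa T η (Ak k)) (hA k).2) qA
  have e4 : clSub (QB T η Q) (∐ E) = clSub (QB T η Q) (∐ fun k => T.obj (E k)) :=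
    clSub_sigma_iso (QB T η Q)
      (fun k => @asIso _ _ _ _ (ηa T η (E k)) (hE k).2) qE
  have e5 : clSub (QB T η Q) (∐ Ak) =
      clSub (QB T η Q) (Ak 0) + clSub (QB T η Q) (∐ fun k => Ak (k + 1)) :=
    clSub_sigma_shift (QB T η Q) Ak (hA 0) qA qA'
  have e6 : clSub (QB T η Q) (Ak 0) = clSub (QB T η Q) (cokernel f) := rfl
  rw [e1, e2, ← e3, ← e4, e5, e6]
  abel

/-- the graded class is invariant under isomorphisms -/
theorem gr_iso {M N : A} (e : M ≅ N) (hM : Q M) :
    clSub (QB T η Q) (gr T η M) = clSub (QB T η Q) (gr T η N) := by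
  haveI := QB_iso h
  haveI := QB_zero h
  exact clSub_sigma_iso (QB T η Q) (fun k => (rpowF T η k ⋙ T).mapIso e) (QB_gr h L hM)

/-- the graded class is additive on biproducts -/
theorem gr_biprod (X Y : A) (hX : Q X) (hY : Q Y) (hXY : Q (X ⊞ Y)) :
    clSub (QB T η Q) (gr T η (X ⊞ Y)) =
      clSub (QB T η Q) (gr T η X) + clSub (QB T η Q) (gr T η Y) := by
  let s := ShortComplex.Splitting.ofHasBinaryBiproduct X Y
  exact clSub_sigma_ses hmono (QB T η Q)
    (fun k => (rpowF T η k ⋙ T).map (biprod.inl : X ⟶ X ⊞ Y))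
    (fun k => (rpowF T η k ⋙ T).map (biprod.snd : X ⊞ Y ⟶ Y))
    (fun k => by rw [← Functor.map_comp, biprod.inl_snd, Functor.map_zero])
    (fun k => (s.map (rpowF T η k ⋙ T)).shortExact)
    (QB_gr h L hX) (QB_gr h L hXY) (QB_gr h L hY)

/-- independence of the filtration: a locally finite tower with quotients fixed by the unit
computes the graded class of its zeroth term -/
theorem gr_tower (F C : ℕ → A) (ι : ∀ k, F (k + 1) ⟶ F k) (π : ∀ k, F k ⟶ C k)
    (w : ∀ k, ι k ≫ π k = 0) (hS : ∀ k, (ShortComplex.mk (ι k) (π k) (w k)).ShortExact)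
    (hF : L.LF F) (hC : ∀ k, QB T η Q (C k)) :
    clSub (QB T η Q) (gr T η (F 0)) = clSub (QB T η Q) (∐ C) := by
  haveI := QB_iso h
  haveI := QB_zero h
  haveI : ∀ k, Epi (π k) := fun k => (hS k).epi_g
  have LC : L.LF C := L.of_epi hF (fun k => (hC k).1) π inferInstance
  have hSig : Q (∐ F) := L.sigma hF
  have hSig' : Q (∐ fun k => F (k + 1)) := L.sigma (L.shift hF)
  have hQC : QB T η Q (∐ C) := QB_sigma h L LC (fun k => (hC k).2)
  have ses := shortExact_sigma hmono ι π w hS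
  haveI : Mono (Limits.Sigma.map ι) := ses.mono_f
  haveI : Epi (Limits.Sigma.map π) := ses.epi_g
  let e : cokernel (Limits.Sigma.map ι) ≅ ∐ C :=
    (cokernelIsCokernel (Limits.Sigma.map ι)).coconePointUniqueUpToIso ses.exact.gIsCokernel
  have hcok : QB T η Q (cokernel (Limits.Sigma.map ι)) := (QB T η Q).prop_of_iso e.symm hQC
  have e1 := gr_sub h L hmono (Limits.Sigma.map ι) hSig' hSig hcok
  have e2 : clSub (QB T η Q) (cokernel (Limits.Sigma.map ι)) = clSub (QB T η Q) (∐ C) :=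
    clSub_iso (QB T η Q) e hcok
  have e3 := gr_iso h L hmono (shiftIso F) hSig
  have e4 := gr_biprod h L hmono (F 0) (∐ fun k => F (k + 1)) (L.q hF 0) hSig'
    (h.iso (shiftIso F) hSig)
  rw [e3, e4, e2, add_comm] at e1
  exact add_left_cancel e1

/-- additivity of the graded class -/
theorem gr_add (S : ShortComplex A) (hS : S.ShortExact) (h₁ : Q S.X₁) (h₂ : Q S.X₂)
    (h₃ : Q S.X₃) :
    clSub (QB T η Q) (gr T η S.X₂) =
      clSub (QB T η Q) (gr T η S.X₁) + clSub (QB T η Q) (gr T η S.X₃) := by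
  haveI := QB_iso h
  haveI := QB_zero h
  haveI := hS.epi_g
  haveI := hS.mono_f
  let gk : ∀ k, (rpowF T η k).obj S.X₂ ⟶ (rpowF T η k).obj S.X₃ := fun k => (rpowF T η k).map S.g
  haveI : ∀ k, Epi (gk k) := fun k => rpowF_map_epi h S.g h₂ h₃ k
  let K : ℕ → A := fun k => kernel (gk k)
  have QK : ∀ k, Q (K k) := fun k => h.ker _ (Q_rpow h h₂ k) (Q_rpow h h₃ k)
  have hdata : ∀ k, ∃ (E : A) (_ : QB T η Q E) (ι : K (k + 1) ⟶ K k) (c : K k ⟶ E)
      (d : E ⟶ T.obj ((rpowF T η k).obj S.X₂)) (w : ι ≫ c = 0) (w' : d ≫ T.map (gk k) = 0),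
      (ShortComplex.mk ι c w).ShortExact ∧ (ShortComplex.mk d (T.map (gk k)) w').ShortExact := by
    intro k
    obtain ⟨D, E, hQD, hQE, hEiso, a, b, c, d, w1, w2, w3, -, -, s1, s2, s3⟩ :=
      keyC h _ (shortExact_kernel (gk k)) (QK k) (Q_rpow h h₂ k) (Q_rpow h h₃ k)
    haveI : Mono a := s1.mono_f
    let u : D ≅ K (k + 1) :=
      s1.exact.fIsKernel.conePointUniqueUpToIso (limit.isLimit (parallelPair (gk (k + 1)) 0))
    refine ⟨E, ⟨hQE, hEiso⟩, u.inv ≫ b, c, d, by rw [Category.assoc, w2, comp_zero], w3, ?_, s3⟩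
    have hS' : (ShortComplex.mk b c w2).ShortExact := s2
    refine ShortComplex.shortExact_of_iso
      (ShortComplex.isoMk (S₁ := ShortComplex.mk b c w2) u (Iso.refl _) (Iso.refl _) ?_ ?_) hS'
    · change u.hom ≫ u.inv ≫ b = b ≫ 𝟙 _
      rw [Category.comp_id, Iso.hom_inv_id_assoc]
    · change 𝟙 _ ≫ c = c ≫ 𝟙 _
      rw [Category.comp_id, Category.id_comp]
  choose E hE ι c d w w' s2 s3 using hdata
  have LK : L.LF K := L.of_mono (L.rpow h₂) QK (fun k => kernel.ι (gk k)) (fun k => inferInstance)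
  have LE : L.LF E := L.of_epi LK (fun k => (hE k).1) c (fun k => (s2 k).epi_g)
  have e1 : clSub (QB T η Q) (gr T η S.X₂) =
      clSub (QB T η Q) (∐ E) + clSub (QB T η Q) (gr T η S.X₃) :=
    clSub_sigma_ses hmono (QB T η Q) d (fun k => T.map (gk k)) w' s3
      (QB_sigma h L LE (fun k => (hE k).2)) (QB_gr h L h₂) (QB_gr h L h₃)
  have e2 : clSub (QB T η Q) (gr T η (K 0)) = clSub (QB T η Q) (∐ E) :=
    gr_tower h L hmono K E ι c w s2 LK hE
  let i0 : S.X₁ ≅ K 0 := hS.exact.fIsKernel.conePointUniqueUpToIso (limit.isLimit (parallelPair (gk 0) 0))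
  have e3 : clSub (QB T η Q) (gr T η S.X₁) = clSub (QB T η Q) (gr T η (K 0)) :=
    gr_iso h L hmono i0 h₁
  rw [e1, e3, e2]

/-- the graded class of an object fixed by the unit -/
theorem gr_QB {M : A} (hM : QB T η Q M) :
    clSub (QB T η Q) (gr T η M) = clSub (QB T η Q) M := by
  haveI := QB_iso h
  haveI := QB_zero h
  haveI := hM.2
  have LM := LF_T h L (L.rpow hM.1)
  have q' : QB T η Q (∐ fun k => T.obj ((rpowF T η (k + 1)).obj M)) :=
    QB_sigma_T h L (L.shift (L.rpow hM.1))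
  have hz : IsZero (∐ fun k => T.obj ((rpowF T η (k + 1)).obj M)) :=
    isZero_sigma _ (fun k => T.map_isZero (isZero_rpowF_succ_of_isIso T η k))
  have e1 := clSub_sigma_shift (QB T η Q) (fun k => T.obj ((rpowF T η k).obj M))
    (QB_T h hM.1) (QB_gr h L hM.1) q'
  have e2 : clSub (QB T η Q) M = clSub (QB T η Q) (T.obj M) :=
    clSub_iso (QB T η Q) (asIso (ηa T η M)) hM
  change clSub (QB T η Q) (∐ fun k => T.obj ((rpowF T η k).obj M)) = _
  rw [e1, clSub_isZero _ hz, add_zero, e2]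
  rfl

/-- every class in `K₀(Q)` is the class of its associated graded -/
theorem clSub_eq_gr {M : A} (hM : Q M) : clSub Q M = clSub Q (gr T η M) := by
  haveI := Q_iso h
  haveI := Q_zero h
  have LM := L.rpow hM
  have hses : ∀ k, (ShortComplex.mk (rι T η ((rpowF T η k).obj M))
      (ηa T η ((rpowF T η k).obj M)) (rι_η T η _)).ShortExact := by
    intro k
    haveI : Epi (ηa T η ((rpowF T η k).obj M)) := h.epi _ (Q_rpow h hM k)
    exact ShortComplex.ShortExact.mk' (ShortComplex.exact_kernel _) inferInstance inferInstance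
  have q1 : Q (∐ fun k => (rpowF T η (k + 1)).obj M) := L.sigma (L.shift LM)
  have e1 : clSub Q (∐ fun k => (rpowF T η k).obj M) =
      clSub Q (∐ fun k => (rpowF T η (k + 1)).obj M) + clSub Q (gr T η M) :=
    clSub_sigma_ses hmono Q (fun k => rι T η ((rpowF T η k).obj M))
      (fun k => ηa T η ((rpowF T η k).obj M)) (fun k => rι_η T η _) hses q1 (L.sigma LM)
      (QB_gr h L hM).1
  have e2 := clSub_sigma_shift Q (fun k => (rpowF T η k).obj M) hM (L.sigma LM) q1
  rw [e2] at e1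
  have e3 : clSub Q ((rpowF T η 0).obj M) = clSub Q M := rfl
  rw [e3, add_comm] at e1
  exact add_left_cancel e1

/-- the retraction `K₀(Q) → K₀(Q_B)` -/
noncomputable def Phi : K0sub Q →+ K0sub (QB T η Q) :=
  Groth.Agent.H17.K0.lift Q (fun M => clSub (QB T η Q) (gr T η M.1)) (by
    intro S h₁ h₂ h₃ hS
    exact gr_add h L hmono S hS h₁ h₂ h₃)

theorem Phi_clSub {M : A} (hM : Q M) :
    Phi h L hmono (clSub Q M) = clSub (QB T η Q) (gr T η M) := by
  rw [Phi, Groth.Agent.H17.K0.lift_clSub Q _ _ hM]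

theorem Phi_clSub_QB {M : A} (hM : QB T η Q M) :
    Phi h L hmono (clSub Q M) = clSub (QB T η Q) M := by
  rw [Phi_clSub h L hmono hM.1, gr_QB h L hmono hM]

end

end Groth.Agent.H30.Swindle
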