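import Mathlib
import Groth.Agent.H30.NilDev.Adj
import Groth.Agent.H30.Swindle.Gr

/-!
# Locally nilpotent dévissage via an Eilenberg swindle, part 3: a fully faithful exact right
adjoint with locally nilpotent radical induces a bijection on `K₀`
-/

set_option autoImplicit false
set_option linter.style.haveILetI false
set_option linter.unusedSectionVars false
universe v v' u u'
open CategoryTheory Limits KZero ZeroObject

namespace Groth.Agent.H30.Swindle

open Groth.Agent.H30.K0Bridge Groth.Agent.H30.NilDev

variable {A : Type u} [Category.{v} A] [Abelian A] {B : Type u'} [Category.{v'} B] [Abelian B]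
  [HasColimitsOfShape (Discrete ℕ) A]
  {G : A ⥤ B} {F : B ⥤ A} {adj : G ⊣ F} [F.Full] [F.Faithful]
  [F.Additive] [PreservesFiniteLimits F] [PreservesFiniteColimits F]
  [PreservesColimitsOfShape (Discrete ℕ) F]
  {P : ObjectProperty B} {Q : ObjectProperty A}
  [P.IsClosedUnderIsomorphisms] [P.ContainsZero]

/-- **Locally nilpotent dévissage**: the exact fully faithful right adjoint `F` induces a
bijection `K₀(P) → K₀(Q)`. -/
theorem mapSub_bijective (H : AdjHyp adj P Q) (L : LFHyp (G ⋙ F) adj.unit Q)
    (hmono : ∀ {X Y : ℕ → A} (f : ∀ k, X k ⟶ Y k), (∀ k, Mono (f k)) →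
      Mono (Limits.Sigma.map f)) :
    Function.Bijective (SGA6.mapSub F P Q H.hF) := by
  haveI : G.Additive := adj.left_adjoint_additive
  haveI : (G ⋙ F).Additive := inferInstance
  haveI := preservesFiniteColimits_T adj
  haveI : PreservesColimitsOfSize.{0, 0} G := adj.leftAdjoint_preservesColimits
  haveI : PreservesColimitsOfShape (Discrete ℕ) (G ⋙ F) := inferInstance
  have hyp := hyp_of_adjHyp H
  constructor
  · have key : ∀ x, Gam H (Phi hyp L hmono (SGA6.mapSub F P Q H.hF x)) = x := by
      intro x
      induction x using Groth.Agent.H17.K0.induction_on P with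
      | h0 => simp
      | hcl N hN =>
        rw [mapSub_clSub F P Q H.hF hN]
        have hQB : QB (G ⋙ F) adj.unit Q (F.obj N) := ⟨H.hF N hN, isIso_unit_app_F adj N⟩
        rw [Phi_clSub_QB hyp L hmono hQB, Gam_clSub H hQB]
        exact clSub_iso P (asIso (adj.counit.app N)) (H.hG _ (H.hF _ hN))
      | hneg x hx => rw [map_neg, map_neg, map_neg, hx]
      | hadd x y hx hy => rw [map_add, map_add, map_add, hx, hy]
    exact Function.LeftInverse.injective (g := fun y => Gam H (Phi hyp L hmono y)) key
  · intro y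
    haveI := Q_iso hyp
    haveI := Q_zero hyp
    induction y using K0sub_induction Q with
    | zero => exact ⟨0, map_zero _⟩
    | cl M hM =>
      have hgr := QB_gr hyp L hM
      haveI : IsIso (adj.unit.app (gr (G ⋙ F) adj.unit M)) := hgr.2
      refine ⟨clSub P (G.obj (gr (G ⋙ F) adj.unit M)), ?_⟩
      rw [mapSub_clSub F P Q H.hF (H.hG _ hgr.1), clSub_eq_gr hyp L hmono hM]
      exact (clSub_iso Q (asIso (adj.unit.app (gr (G ⋙ F) adj.unit M))) hgr.1).symm
    | neg x h => obtain ⟨a, rfl⟩ := h; exact ⟨-a, map_neg _ _⟩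
    | add x y hx hy =>
      obtain ⟨a, rfl⟩ := hx; obtain ⟨b, rfl⟩ := hy; exact ⟨a + b, map_add _ _ _⟩

end Groth.Agent.H30.Swindle
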