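import Mathlib
import Groth.Agent.H30.Swindle.Core

/-!
# Comparing the radical filtrations along an exact functor
-/

set_option autoImplicit false
set_option linter.style.haveILetI false
universe v v' u u'
open CategoryTheory Limits

namespace Groth.Agent.H30.Swindle

open Groth.Agent.H30.NilDev

section Nil

variable {A : Type u} [Category.{v} A] [Abelian A] (T : A ⥤ A) (η : 𝟭 A ⟶ T)

lemma rpowF_succ_obj : ∀ (n : ℕ) (M : A),
    (rpowF T η (n + 1)).obj M = (rpowF T η n).obj (r T η M)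
  | 0, _ => rfl
  | n + 1, M => congrArg (fun N => r T η N) (rpowF_succ_obj n M)

lemma nil_iff_isZero_rpow : ∀ (n : ℕ) (M : A), nil T η n M ↔ IsZero ((rpowF T η n).obj M)
  | 0, _ => Iff.rfl
  | n + 1, M => by
    rw [rpowF_succ_obj]
    exact nil_iff_isZero_rpow n (r T η M)

lemma exists_mono_rpow_le (M : A) {n k : ℕ} (hnk : n ≤ k) :
    ∃ f : (rpowF T η k).obj M ⟶ (rpowF T η n).obj M, Mono f := by
  induction k, hnk using Nat.le_induction with
  | base => exact ⟨𝟙 _, inferInstance⟩
  | succ k _ ih =>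
    obtain ⟨f, hf⟩ := ih
    have h : Mono (rι T η ((rpowF T η k).obj M) ≫ f) := mono_comp _ _
    exact ⟨rι T η ((rpowF T η k).obj M) ≫ f, h⟩

end Nil

section Compare

variable {A : Type u} [Category.{v} A] [Abelian A] (T : A ⥤ A) (η : 𝟭 A ⟶ T)
  {A' : Type u'} [Category.{v'} A'] [Abelian A'] (T' : A' ⥤ A') (η' : 𝟭 A' ⟶ T')
  (R : A ⥤ A') [R.PreservesMonomorphisms]
  (hstar : ∀ M : A, R.map (rι T η M) ≫ ηa T' η' (R.obj M) = 0)

include hstar in
lemma exists_mono_cmp : ∀ (k : ℕ) (M : A),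
    ∃ f : R.obj ((rpowF T η k).obj M) ⟶ (rpowF T' η' k).obj (R.obj M), Mono f
  | 0, M => by
    have h : Mono (𝟙 (R.obj M)) := inferInstance
    exact ⟨𝟙 (R.obj M), h⟩
  | k + 1, M => by
    obtain ⟨f, hf⟩ := exists_mono_cmp k M
    let N := (rpowF T η k).obj M
    let l : R.obj (r T η N) ⟶ r T' η' (R.obj N) :=
      rlift T' η' (R.map (rι T η N)) (hstar N)
    haveI : Mono l := by
      haveI : Mono (l ≫ rι T' η' (R.obj N)) := by
        rw [rlift_ι]
        infer_instance
      exact mono_of_mono l (rι T' η' (R.obj N))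
    have h : Mono (l ≫ rmap T' η' f) := mono_comp _ _
    exact ⟨l ≫ rmap T' η' f, h⟩

include hstar in
/-- nilpotency downstairs forces the restriction of the radical power to vanish -/
lemma isZero_map_rpow_of_nil (M : A) (n : ℕ) (hn : nil T' η' n (R.obj M)) (k : ℕ) (hnk : n ≤ k)
    [R.PreservesZeroMorphisms] : IsZero (R.obj ((rpowF T η k).obj M)) := by
  obtain ⟨g, hg⟩ := exists_mono_rpow_le T η M hnk
  obtain ⟨f, hf⟩ := exists_mono_cmp T η T' η' R hstar n M
  haveI : Mono (R.map g) := inferInstance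
  exact IsZero.of_mono (R.map g ≫ f) ((nil_iff_isZero_rpow T' η' n _).1 hn)

end Compare

end Groth.Agent.H30.Swindle
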