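import Mathlib
import Groth.Agent.H30.QCohLoc
import Groth.Agent.H30.CohLoc.Closure
import Groth.Agent.H30.CohLoc.K0Transport
import Groth.Agent.H12.RestrictLim
import Groth.Agent.H18.QCohLocal
import Groth.Agent.H77.RestrictFT
import Groth.Agent.H30.Swindle.SigmaNat

/-!
# Modules vanishing on an open subset; coherence of locally finite coproducts
-/

set_option autoImplicit false
set_option linter.style.haveILetI false
universe u
open CategoryTheory Limits TopologicalSpace Opposite AlgebraicGeometry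

namespace Groth.Agent.H30.Swindle

open Scheme.Modules Groth.Agent.H30.CohLoc

variable {X : Scheme.{u}}

/-- `M` restricts to zero on the open `V` -/
def ZeroOn (V : X.Opens) (M : X.Modules) : Prop := IsZero ((restrictFunctor V.ι).obj M)

lemma zeroOn_of_isZero (V : X.Opens) {M : X.Modules} (h : IsZero M) : ZeroOn V M :=
  (restrictFunctor V.ι).map_isZero h

lemma zeroOn_of_iso (V : X.Opens) {M N : X.Modules} (e : M ≅ N) (h : ZeroOn V M) : ZeroOn V N :=
  IsZero.of_iso h ((restrictFunctor V.ι).mapIso e.symm)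

lemma zeroOn_of_mono (V : X.Opens) {N M : X.Modules} (f : N ⟶ M) [Mono f] (h : ZeroOn V M) :
    ZeroOn V N := by
  haveI : Mono ((restrictFunctor V.ι).map f) := inferInstance
  exact IsZero.of_mono ((restrictFunctor V.ι).map f) h

lemma zeroOn_of_epi (V : X.Opens) {M N : X.Modules} (f : M ⟶ N) [Epi f] (h : ZeroOn V M) :
    ZeroOn V N := by
  haveI : Epi ((restrictFunctor V.ι).map f) := inferInstance
  exact IsZero.of_epi ((restrictFunctor V.ι).map f) h

lemma zeroOn_sigma (V : X.Opens) (M : ℕ → X.Modules) (h : ∀ k, ZeroOn V (M k)) :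
    ZeroOn V (∐ M) :=
  IsZero.of_iso (isZero_sigma _ h) (PreservesCoproduct.iso (restrictFunctor V.ι) M)

lemma zeroOn_iff (V : X.Opens) (M : X.Modules) :
    ZeroOn V M ↔ ∀ x ∈ V, Subsingleton (M.presheaf.stalk x) := by
  constructor
  · intro h x hx
    exact Groth.Agent.H30.QCohLoc.subsingleton_stalk_of_isZero_restrict V.ι M h x
      (by rw [Scheme.Opens.opensRange_ι]; exact hx)
  · intro h
    exact Groth.Agent.H30.QCohLoc.isZero_restrict_of_subsingleton_stalk V.ι M
      (fun x hx => h x (by rwa [Scheme.Opens.opensRange_ι] at hx))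

lemma zeroOn_of_le {W V : X.Opens} (hWV : W ≤ V) {M : X.Modules} (h : ZeroOn V M) :
    ZeroOn W M :=
  (zeroOn_iff W M).2 (fun x hx => (zeroOn_iff V M).1 h x (hWV hx))

/-- the support condition of the statement, in terms of `ZeroOn` -/
lemma zeroOn_compl_iff (S : Set X) (hS : IsClosed S) (M : X.Modules) :
    ZeroOn ⟨Sᶜ, hS.isOpen_compl⟩ M ↔ ∀ x : X, Nontrivial (M.presheaf.stalk x) → x ∈ S := by
  rw [zeroOn_iff]
  constructor
  · intro h x hx
    by_contra hn
    haveI := h x hn
    exact not_subsingleton _ ‹_›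
  · intro h x hx
    by_contra hn
    exact hx (h x (not_subsingleton_iff_nontrivial.1 hn))

/-- a coproduct of coherent modules, almost all zero, is coherent -/
lemma isCoh_sigma_of_eventually_zero {Y : Scheme.{u}} :
    ∀ (n : ℕ) (N : ℕ → Y.Modules), (∀ k, Coh.IsCoh (N k)) → (∀ k, n ≤ k → IsZero (N k)) →
      Coh.IsCoh (∐ N)
  | 0, N, _, hz => isCoh_of_isZero _ (isZero_sigma N (fun k => hz k (Nat.zero_le k)))
  | n + 1, N, hN, hz =>
    isCoh_of_iso (shiftIso N).symm (isCoh_biprod _ _ (hN 0)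
      (isCoh_sigma_of_eventually_zero n (fun k => N (k + 1)) (fun k => hN (k + 1))
        (fun k hk => hz (k + 1) (Nat.succ_le_succ hk))))

/-- coherence is local -/
lemma isCoh_of_locally (M : X.Modules)
    (h : ∀ x : X, ∃ V : X.Opens, x ∈ V ∧ Coh.IsCoh ((restrictFunctor V.ι).obj M)) :
    Coh.IsCoh M := by
  choose V hxV hcoh using h
  have hU : IsOpenCover V := by
    rw [IsOpenCover, eq_top_iff]
    intro x _
    exact Opens.mem_iSup.2 ⟨x, hxV x⟩
  haveI : M.IsQuasicoherent :=
    Groth.Agent.H18.isQuasicoherent_of_isOpenCover M V hU (fun x => (hcoh x).1)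
  exact ⟨inferInstance,
    Groth.Agent.H77.RestrictFT.isFiniteType_of_isOpenCover M V hU (fun x => (hcoh x).2)⟩

/-- a locally finite coproduct of coherent modules is coherent -/
lemma isCoh_sigma_of_locallyFinite (M : ℕ → X.Modules) (hM : ∀ k, Coh.IsCoh (M k))
    (hlf : ∀ x : X, ∃ V : X.Opens, x ∈ V ∧ ∃ n, ∀ k, n ≤ k → ZeroOn V (M k)) :
    Coh.IsCoh (∐ M) := by
  refine isCoh_of_locally _ (fun x => ?_)
  obtain ⟨V, hxV, n, hn⟩ := hlf x
  refine ⟨V, hxV, ?_⟩
  refine isCoh_of_iso (PreservesCoproduct.iso (restrictFunctor V.ι) M).symm ?_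
  exact isCoh_sigma_of_eventually_zero n _ (fun k => isCoh_restrict V.ι (M k) (hM k)) hn

end Groth.Agent.H30.Swindle
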