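import Mathlib
import Groth.Agent.H30.CohLoc.K0Nil
import Groth.Agent.H30.CohLoc.SuppIso
import Groth.Agent.H30.Swindle.Compare
import Groth.Agent.H30.Swindle.ZeroOn
import Groth.Agent.H67.DevGen2
import Groth.Agent.H5.Stalk.PushClosedColim

/-!
# Local nilpotency of the radical filtration of a coherent module supported on a closed subscheme
-/

set_option autoImplicit false
set_option linter.style.haveILetI false
universe u
open CategoryTheory Limits TopologicalSpace Opposite AlgebraicGeometry

namespace Groth.Agent.H30.Swindle

open KZero Groth.Agent.H30.K0Bridge Groth.Agent.H30.NilDev Groth.Agent.H30.CohLoc Scheme.Modules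

section Noeth

attribute [local instance] coh_iso coh_zero

variable {X X' : Scheme.{u}} [IsNoetherian X] (i : X' ⟶ X) [IsClosedImmersion i]

/-- on a Noetherian scheme, a coherent module supported in the closed subscheme `X'` has
nilpotent radical filtration -/
theorem exists_nil_supp (M : X.Modules) (hM : Coh.IsCoh M)
    (hs : CohB1.support M ⊆ Set.range i) :
    ∃ n, nil (Scheme.Modules.pullback i ⋙ Scheme.Modules.pushforward i)
      (Scheme.Modules.pullbackPushforwardAdjunction i).unit n M := by
  let adj := Scheme.Modules.pullbackPushforwardAdjunction i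
  haveI := preservesZeroMorphisms_T adj
  haveI := preservesFiniteColimits_T adj
  have hi : ∀ M : X'.Modules, Coh.IsCoh M → Coh.IsCoh ((Scheme.Modules.pushforward i).obj M) :=
    fun M h => Groth.Agent.H67.Dev.isCoh_push_closed i h
  have hyp := hyp_of_adjHyp (adjHyp i hi)
  refine Groth.Agent.H67.Dev.devissage_rel (Set.range i) i.isClosedEmbedding.isClosed_range
    (fun M : X.Modules => Coh.IsCoh M →
      ∃ n, nil (Scheme.Modules.pullback i ⋙ Scheme.Modules.pushforward i) adj.unit n M)
    ?_ ?_ ?_ ?_ M hM hs hM
  · rintro M N ⟨e⟩ h hN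
    obtain ⟨n, hn⟩ := h (isCoh_of_iso e.symm hN)
    exact ⟨n, nil_of_mono _ _ n e.inv hn⟩
  · intro M hM0 _
    exact ⟨0, hM0⟩
  · intro S hS c1 c2 c3 _ p1 p3 _
    obtain ⟨a, ha⟩ := p1 c1
    obtain ⟨b, hb⟩ := p3 c3
    exact ⟨a + b, nil_ext hyp b a S hS c1 c2 c3 ha hb⟩
  · intro Z iZ _ _ hsub _ I ι _ hI hcoh
    have hk : ClSub.KilledByIdeal i.ker ((Coh.push iZ).obj I) :=
      killedByIdeal_of_le (ker_le_ker i iZ hsub) _ (killedByIdeal_pushforward_ker iZ I)
    haveI : IsIso (ηa (Scheme.Modules.pullback i ⋙ Scheme.Modules.pushforward i) adj.unit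
        ((Coh.push iZ).obj I)) := isIso_unit_of_killed i _ hcoh hk
    exact ⟨1, isZero_r_of_isIso _ _⟩

end Noeth

section Star

variable {X Z V Z' : Scheme.{u}} (i : Z ⟶ X) (j : V ⟶ X) [IsOpenImmersion j] (iV : Z' ⟶ V)
  (j' : Z' ⟶ Z) (comm : iV ≫ j = j' ≫ i)

/-- restriction to an open commutes with inverse image to a closed subscheme -/
noncomputable def restrictPullbackIso :
    restrictFunctor j ⋙ Scheme.Modules.pullback iV ≅
      Scheme.Modules.pullback i ⋙ Scheme.Modules.pullback j' :=
  Functor.isoWhiskerRight (restrictFunctorIsoPullback j) (Scheme.Modules.pullback iV) ≪≫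
    Scheme.Modules.pullbackComp iV j ≪≫ Scheme.Modules.pullbackCongr comm ≪≫
    (Scheme.Modules.pullbackComp j' i).symm

lemma pullback_map_rι_eq_zero (M : X.Modules) :
    (Scheme.Modules.pullback i).map
      (rι (Scheme.Modules.pullback i ⋙ Scheme.Modules.pushforward i)
        (Scheme.Modules.pullbackPushforwardAdjunction i).unit M) = 0 := by
  let adj := Scheme.Modules.pullbackPushforwardAdjunction i
  apply (adj.homEquiv _ _).injective
  rw [adj.homEquiv_unit, adj.homEquiv_unit, Functor.map_zero, comp_zero]
  have h1 := adj.unit.naturality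
    (rι (Scheme.Modules.pullback i ⋙ Scheme.Modules.pushforward i) adj.unit M)
  have h2 := rι_η (Scheme.Modules.pullback i ⋙ Scheme.Modules.pushforward i) adj.unit M
  exact h1.symm.trans h2

include comm in
/-- the compatibility `(★)` between the radicals on `X` and on the open `V` -/
lemma star (M : X.Modules) :
    (restrictFunctor j).map
        (rι (Scheme.Modules.pullback i ⋙ Scheme.Modules.pushforward i)
          (Scheme.Modules.pullbackPushforwardAdjunction i).unit M) ≫
      ηa (Scheme.Modules.pullback iV ⋙ Scheme.Modules.pushforward iV)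
        (Scheme.Modules.pullbackPushforwardAdjunction iV).unit ((restrictFunctor j).obj M) = 0 := by
  let adj' := Scheme.Modules.pullbackPushforwardAdjunction iV
  set f := rι (Scheme.Modules.pullback i ⋙ Scheme.Modules.pushforward i)
    (Scheme.Modules.pullbackPushforwardAdjunction i).unit M with hf
  haveI : (Scheme.Modules.pullback j').Additive :=
    (Scheme.Modules.pullbackPushforwardAdjunction j').left_adjoint_additive
  have h2 : (Scheme.Modules.pullback iV).map ((restrictFunctor j).map f) = 0 := by
    have h3 := NatIso.naturality_2 (restrictPullbackIso i j iV j' comm) f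
    have h4 : (Scheme.Modules.pullback i ⋙ Scheme.Modules.pullback j').map f = 0 := by
      change (Scheme.Modules.pullback j').map ((Scheme.Modules.pullback i).map f) = 0
      rw [hf, pullback_map_rι_eq_zero, Functor.map_zero]
    rw [h4, zero_comp, comp_zero] at h3
    exact h3.symm
  have h5 := adj'.unit.naturality ((restrictFunctor j).map f)
  change (restrictFunctor j).map f ≫ adj'.unit.app ((restrictFunctor j).obj M) = 0
  refine h5.trans ?_
  change _ ≫ (Scheme.Modules.pushforward iV).map
    ((Scheme.Modules.pullback iV).map ((restrictFunctor j).map f)) = 0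
  rw [h2, Functor.map_zero, comp_zero]

end Star

end Groth.Agent.H30.Swindle
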