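import Mathlib
import Groth.Agent.H30.Swindle.Adj
import Groth.Agent.H30.Swindle.LocalNil
import Groth.Agent.H33.SheafMod.Grothendieck
import Groth.Agent.H31.ClosedCoR1

/-!
# `K₀(Coh Z) ≅ K₀(Coh_Z X)` for a closed immersion `Z → X` into a locally Noetherian scheme
-/

set_option autoImplicit false
set_option linter.style.haveILetI false
universe u
open CategoryTheory Limits TopologicalSpace Opposite AlgebraicGeometry

namespace Groth.Agent.H30.Swindle

open KZero Groth.Agent.H30.K0Bridge Groth.Agent.H30.NilDev Groth.Agent.H30.CohLoc Scheme.Modules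

variable {X Z : Scheme.{u}} (i : Z ⟶ X) [IsClosedImmersion i]

/-- coherent modules supported in the image of `i` -/
def QS : ObjectProperty X.Modules := fun G =>
  Coh.IsCoh G ∧ ∀ x : X, Nontrivial (G.presheaf.stalk x) → x ∈ Set.range ⇑i

/-- the open complement of the image -/
def U0 : X.Opens := ⟨(Set.range ⇑i)ᶜ, i.isClosedEmbedding.isClosed_range.isOpen_compl⟩

lemma QS_iff (M : X.Modules) : QS i M ↔ Coh.IsCoh M ∧ ZeroOn (U0 i) M :=
  and_congr Iff.rfl (zeroOn_compl_iff _ i.isClosedEmbedding.isClosed_range M).symm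

lemma mono_sigma_map {A B : ℕ → X.Modules} (f : ∀ k, A k ⟶ B k) (hf : ∀ k, Mono (f k)) :
    Mono (Limits.Sigma.map f) := by
  haveI : IsGrothendieckAbelian.{u} X.Modules :=
    Groth.Agent.H33.SheafMod.isGrothendieckAbelian (Opens.grothendieckTopology X) X.ringCatSheaf
  haveI : HasFiniteBiproducts X.Modules := Abelian.hasFiniteBiproducts
  haveI : AB4OfSize.{u} X.Modules := AB4.of_AB5 _
  infer_instance

variable [IsLocallyNoetherian X]

lemma adjHypS : AdjHyp (Scheme.Modules.pullbackPushforwardAdjunction i) (cohP Z) (QS i) where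
  zero M hM := (QS_iff i M).2 ⟨isCoh_of_isZero M hM, zeroOn_of_isZero _ hM⟩
  iso {M N} e h := (QS_iff i N).2 ⟨isCoh_of_iso e ((QS_iff i M).1 h).1,
    zeroOn_of_iso _ e ((QS_iff i M).1 h).2⟩
  ker {M N} f hM hN := (QS_iff i _).2
    ⟨(Groth.Agent.S9514.result X hM.1 hN.1 f).1, zeroOn_of_mono _ (kernel.ι f) ((QS_iff i M).1 hM).2⟩
  coker {M N} f hM hN := (QS_iff i _).2
    ⟨(Groth.Agent.S9514.result X hM.1 hN.1 f).2,
      zeroOn_of_epi _ (cokernel.π f) ((QS_iff i N).1 hN).2⟩
  hF N hN := by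
    refine (QS_iff i _).2 ⟨Groth.Agent.H67.Dev.isCoh_push_closed i hN, ?_⟩
    rw [zeroOn_iff]
    intro x hx
    exact Groth.Agent.H5.Stalk.subsingleton_stalk_pushforward i
      i.isClosedEmbedding.isClosed_range x hx N
  hG M hM := by
    haveI : M.IsQuasicoherent := hM.1.1
    haveI : SheafOfModules.IsFiniteType (R := X.ringCatSheaf) M := hM.1.2
    exact ⟨inferInstance, inferInstance⟩
  isoSub {N M} f _ hN hM hiso := by
    haveI := hiso
    have hk0 : ClSub.KilledByIdeal i.ker ((Scheme.Modules.pushforward i).obj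
        ((Scheme.Modules.pullback i).obj M)) := killedByIdeal_pushforward_ker i _
    have hkM : ClSub.KilledByIdeal i.ker M :=
      killedByIdeal_of_mono i.ker ((Scheme.Modules.pullbackPushforwardAdjunction i).unit.app M) hk0
    exact isIso_unit_of_killed i N hN.1 (killedByIdeal_of_mono i.ker f hkM)

/-- locally finite families of coherent modules supported in the image of `i` -/
def LFS (M : ℕ → X.Modules) : Prop :=
  (∀ k, QS i (M k)) ∧ ∀ x : X, ∃ V : X.Opens, x ∈ V ∧ ∃ n, ∀ k, n ≤ k → ZeroOn V (M k)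

/-- local nilpotency of the radical filtration -/
lemma lfs_rpow {M : X.Modules} (hM : QS i M) :
    LFS i (fun k => (rpowF (Scheme.Modules.pullback i ⋙ Scheme.Modules.pushforward i)
      (Scheme.Modules.pullbackPushforwardAdjunction i).unit k).obj M) := by
  have hyp := hyp_of_adjHyp (adjHypS i)
  refine ⟨fun k => Q_rpow hyp hM k, fun x => ?_⟩
  obtain ⟨V, hV, hxV, -⟩ := exists_isAffineOpen_mem_and_subset (x := x) (U := ⊤) trivial
  haveI : IsAffine V.toScheme := hV
  haveI : IsNoetherian V.toScheme := {}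
  refine ⟨V, hxV, ?_⟩
  let iV : pullback i V.ι ⟶ V.toScheme := pullback.snd i V.ι
  let j' : pullback i V.ι ⟶ Z := pullback.fst i V.ι
  have comm : iV ≫ V.ι = j' ≫ i := (pullback.condition (f := i) (g := V.ι)).symm
  have hcoh : Coh.IsCoh ((restrictFunctor V.ι).obj M) := isCoh_restrict V.ι M hM.1
  have hsupp : CohB1.support ((restrictFunctor V.ι).obj M) ⊆ Set.range iV := by
    intro y hy
    have h1 : ¬ Subsingleton (M.presheaf.stalk (V.ι y)) := fun h =>
      hy (Groth.Agent.H30.CohLoc.subsingleton_stalk_restrict V.ι M y h)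
    have h2 : V.ι y ∈ Set.range ⇑i := hM.2 _ (not_subsingleton_iff_nontrivial.1 h1)
    have h3 := Scheme.Pullback.range_snd i V.ι
    change y ∈ Set.range ⇑(pullback.snd i V.ι)
    rw [h3]
    exact h2
  obtain ⟨n, hn⟩ := exists_nil_supp iV _ hcoh hsupp
  refine ⟨n, fun k hk => ?_⟩
  exact isZero_map_rpow_of_nil _ _ _ _ (restrictFunctor V.ι) (star i V.ι iV j' comm) M n hn k hk

/-- the admissible families -/
noncomputable def lfHyp : LFHyp (Scheme.Modules.pullback i ⋙ Scheme.Modules.pushforward i)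
    (Scheme.Modules.pullbackPushforwardAdjunction i).unit (QS i) where
  LF := LFS i
  q h := h.1
  sigma {M} h := by
    refine (QS_iff i _).2 ⟨isCoh_sigma_of_locallyFinite M (fun k => (h.1 k).1) h.2, ?_⟩
    exact zeroOn_sigma _ M (fun k => ((QS_iff i _).1 (h.1 k)).2)
  of_mono {M N} h hN f hf := by
    refine ⟨hN, fun x => ?_⟩
    obtain ⟨V, hxV, n, hn⟩ := h.2 x
    exact ⟨V, hxV, n, fun k hk => by haveI := hf k; exact zeroOn_of_mono V (f k) (hn k hk)⟩
  of_epi {M N} h hN f hf := by
    refine ⟨hN, fun x => ?_⟩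
    obtain ⟨V, hxV, n, hn⟩ := h.2 x
    exact ⟨V, hxV, n, fun k hk => by haveI := hf k; exact zeroOn_of_epi V (f k) (hn k hk)⟩
  shift {M} h := by
    refine ⟨fun k => h.1 (k + 1), fun x => ?_⟩
    obtain ⟨V, hxV, n, hn⟩ := h.2 x
    exact ⟨V, hxV, n, fun k hk => hn (k + 1) (Nat.le_succ_of_le hk)⟩
  rpow hM := lfs_rpow i hM

attribute [local instance] coh_iso coh_zero

/-- pushforward along a closed immersion into a locally Noetherian scheme induces a bijection
`K₀(Coh Z) → K₀(Coh_Z X)` -/
theorem k0_supp_bijective :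
    Function.Bijective (SGA6.mapSub (Scheme.Modules.pushforward i) (cohP Z) (QS i)
      (adjHypS i).hF) :=
  mapSub_bijective (adjHypS i) (lfHyp i) (fun f hf => mono_sigma_map f hf)

end Groth.Agent.H30.Swindle
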